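import Mathlib
import Cfsg.Agent.Class.C6P.BigL
import Cfsg.Agent.Class.Asch.Proper
import Cfsg.Agent.S3762

/-!
From groups of symplectic type to Pauli groups.
-/

set_option autoImplicit false

namespace Cfsg.Agent.Class.C6P

open Module Cfsg.Agent.Class.Max

universe v

theorem PD.tt_mem {F A G E : Type*} [Field F] [Ring A] [Algebra F A] [Group G] [AddCommGroup E]
    [Module F2 E] {ρ : G →* A} {P : Subgroup G} {π : G → E} {B : E →ₗ[F2] E →ₗ[F2] F2}
    (h : PD F ρ P π B) (hT : TT F ρ P π) {K : Subgroup G} (hK : ∀ a b, a * b * a⁻¹ * b⁻¹ ∈ K)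
    (H0 : ∀ a b, ∃ c, T ρ P π c ∧ B a (π c) = 0 ∧ B b (π c) = 0)
    (H1 : ∀ a b, a ≠ 0 → b ≠ 0 → ∃ c, T ρ P π c ∧ B a (π c) = 1 ∧ B b (π c) = 1) :
    (∀ x x', T ρ P π x → T ρ P π x' → ∃ g ∈ K, IsTT F ρ g x x') ∧
      ∀ r ∈ P, ρ r * ρ r = 1 ∨ ρ r * ρ r = -1 → r ∈ K := by
  have k1 : ∀ x x', T ρ P π x → T ρ P π x' → B (π x) (π x') = 1 → ∃ g ∈ K, IsTT F ρ g x x' :=
    fun a x ha hx e => by
      have e1 := h.comm1 a ha.mem x hx.mem e
      have hb : T ρ P π (x * a) := ⟨P.mul_mem hx.mem ha.mem, by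
        rw [map_mul, mul_assoc, ← mul_assoc (ρ a), e1, neg_mul, mul_assoc, ha.sq, mul_neg, mul_neg,
          mul_one, mul_neg, hx.sq, neg_neg], by
        rw [h.mul _ hx.mem _ ha.mem, Ne, add_eq_zero]
        rintro e'
        simp [e', h.sy.alt] at e⟩
      obtain ⟨c, hc, c1, c2⟩ := H0 (π a) (π (x * a))
      obtain ⟨g, l, hg⟩ := hT a c ha hc
      obtain ⟨k, m, hk⟩ := hT _ c hb hc
      refine ⟨_, hK g k, l * m * (4 * l)⁻¹ * (4 * m)⁻¹ * 8, ?_⟩
      have c3 := h.comm0 _ ha.mem _ hc.mem c1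
      have c4 := h.comm0 _ hb.mem _ hc.mem c2
      have c5 : ρ (x * a) * ρ a = -ρ x := by rw [map_mul, mul_assoc, ha.sq, mul_neg_one]
      have c6 : ρ a * ρ (x * a) = ρ x := by
        rw [map_mul, ← mul_assoc, e1, neg_mul, mul_assoc, ha.sq, mul_neg_one, neg_neg]
      have c7 : ρ (x * a) * ρ x = ρ a := by
        rw [map_mul, mul_assoc, e1, mul_neg, ← mul_assoc, hx.sq, neg_one_mul, neg_neg]
      rw [map_mul, map_mul, map_mul, h.tt_inv hg ha.sq hc.sq, h.tt_inv hk hb.sq hc.sq, hg, hk]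
      have d1 := ha.sq
      have d2 := hb.sq
      have d3 := hc.sq
      generalize ρ (x * a) = b at *
      generalize ρ a = a at *
      generalize ρ c = c at *
      have d4 : (1 + c) * (1 + b) = (1 + b) * (1 + c) := comm_add (comm_add c4).symm
      have d5 : (1 - c) * (1 - a) = (1 - a) * (1 - c) := comm_sub (comm_sub c3).symm
      have d6 : (1 + c) * (1 - a) = (1 - a) * (1 + c) := comm_sub (comm_add c3).symm
      have d7 : ∀ z, (1 + c) * ((1 - c) * z) = (2 : F) • z := fun z => by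
        rw [← mul_assoc, PD.one_add_mul_one_sub (F := F) d3, smul_mul_assoc, one_mul]
      have d8 : (1 + b) * ((1 - a) * (1 - b)) = (2 : F) • (1 + ρ x) := by
        simp only [mul_sub, sub_mul, add_mul, one_mul, mul_one, c5, c6, c7, d2]
        module
      simp only [smul_mul_assoc, mul_smul_comm, mul_assoc, d7]
      rw [← mul_assoc (1 + c), d4, mul_assoc, ← mul_assoc (1 + c), d6, mul_assoc, d7]
      simp only [mul_smul_comm, d8, smul_smul]
      congr 1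
      ring
  have k2 : ∀ x, T ρ P π x → x ∈ K := fun x hx => by
    obtain ⟨s, hs, s1, -⟩ := H1 _ _ hx.ne hx.ne
    obtain ⟨b, hb, b1, -⟩ := H0 (π s) (π s)
    obtain ⟨g, c, hg⟩ := hT x b hx hb
    have : g * s = x * s * g := h.inj (by
      have e1 := h.comm1 _ hx.mem _ hs.mem s1
      rw [map_mul, map_mul, map_mul, hg, smul_mul_assoc, mul_smul_comm, mul_assoc,
        ← comm_add (h.comm0 _ hs.mem _ hb.mem b1), ← mul_assoc, ← mul_assoc, mul_add (ρ x * ρ s), mul_one,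
        mul_assoc (ρ x), ← neg_eq_iff_eq_neg.2 e1, mul_neg, ← mul_assoc, hx.sq, add_mul 1, one_mul,
        neg_one_mul, neg_neg, add_comm (ρ s)])
    simpa [this] using hK g s
  have k3 : ∀ x, Iv ρ P π x → x ∈ K := fun x hx => by
    obtain ⟨w, hw⟩ := h.sy.ex_one hx.ne
    obtain ⟨c, hc, c1, c2⟩ := H0 (π x) w
    have := k2 _ (h.T_mul_Iv hc hx ((h.comm_iff hx.mem hc.mem).2 c1).symm fun e => by
      simp [e, h.sy.symm w, hw] at c2)
    exact (K.mul_mem_cancel_left (k2 c hc)).1 this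
  refine ⟨fun x x' hx hx' => ?_, fun r hr e => ?_⟩
  · obtain ⟨d, hd, d1, d2⟩ := H1 _ _ hx.ne hx'.ne
    obtain ⟨d', e1, e2, e3⟩ := h.neg_T hd
    obtain ⟨g, g1, l, hg⟩ := k1 x d hx hd d1
    obtain ⟨k, k1, m, hk⟩ := k1 d' x' e1 hx' (by rw [e3, h.sy.symm, d2])
    exact ⟨g * k, K.mul_mem g1 k1, l * m * 2, by
      rw [map_mul, hg, hk, e2, smul_mul_smul_comm, mul_assoc, ← mul_assoc (1 + ρ d), ← sub_eq_add_neg,
        PD.one_add_mul_one_sub (F := F) hd.sq, smul_mul_assoc, one_mul, mul_smul_comm, smul_smul]⟩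
  by_cases r0 : π r = 0
  swap
  · exact e.elim (fun e => k3 r ⟨hr, e, r0⟩) fun e => k2 r ⟨hr, e, r0⟩
  obtain ⟨c, hc, -⟩ := H0 0 0
  have e1 := ρ_comm (ρ := ρ) (h.sc_comm ((h.ker r hr).1 r0) c)
  have e2 : ρ (r * c) * ρ (r * c) = -(ρ r * ρ r) := by
    rw [map_mul, mul_assoc, ← mul_assoc (ρ c), ← e1, mul_assoc, hc.sq, mul_neg_one, mul_neg]
  have e3 : π (r * c) ≠ 0 := by rw [h.mul _ hr _ hc.mem, r0, zero_add]; exact hc.ne
  refine (K.mul_mem_cancel_right (k2 c hc)).1 (e.elim (fun e => k2 _ ⟨P.mul_mem hr hc.mem, ?_, e3⟩)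
    fun e => k3 _ ⟨P.mul_mem hr hc.mem, ?_, e3⟩) <;> simp only [e2, e, neg_neg]

theorem comm_of_symp {G : Type*} [Group G] [Finite G] (hG : IsPGroup 2 G)
    (hs : ∀ A : Subgroup G, A.Characteristic → IsMulCommutative A → IsCyclic A)
    (h4 : Monoid.exponent G = 4) (a b : G) :
    a * b * a⁻¹ * b⁻¹ ∈ Subgroup.center G ∧ (a * b * a⁻¹ * b⁻¹) ^ 2 = 1 := by
  obtain ⟨E, R, h1, h2, h3, h5⟩ := S3762.result hG hs
  have o : ∀ x : R, orderOf x ≤ 4 := fun x => Nat.le_of_dvd four_pos (by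
    rw [← h4, ← Subgroup.orderOf_coe]; exact Monoid.order_dvd_exponent _)
  have hR : IsCyclic R := by
    rcases h5 with h | ⟨-, h, ⟨m, ⟨e⟩⟩ | ⟨m, ⟨e⟩⟩ | ⟨n, h6, -, x, -, h7, -⟩⟩
    · exact h
    · have := o (e.symm (DihedralGroup.r 1))
      rw [MulEquiv.orderOf_eq, DihedralGroup.orderOf_r_one] at this
      rw [Nat.card_congr e.toEquiv, DihedralGroup.nat_card] at h
      omega
    · have h8 := o (e.symm (QuaternionGroup.a 1))
      rw [MulEquiv.orderOf_eq, QuaternionGroup.orderOf_a_one] at h8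
      have : Finite (QuaternionGroup m) := Finite.of_equiv _ e.toEquiv
      rcases m with _ | m
      · have : Finite ℤ := Finite.of_injective (QuaternionGroup.a (n := 0)) fun _ _ e => QuaternionGroup.a.inj e
        exact (not_finite ℤ).elim
      rw [Nat.card_congr e.toEquiv, Nat.card_eq_fintype_card, QuaternionGroup.card] at h
      omega
    · have := (Nat.pow_le_pow_right two_pos h6).trans (h7 ▸ o x)
      omega
  have c : ∀ {S : Subgroup G}, (∀ x ∈ S, ∀ e ∈ E, e * x = x * e) → (∀ x ∈ S, ∀ e ∈ R, e * x = x * e) →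
      S ≤ Subgroup.center G := fun {S} e1 e2 x hx => Subgroup.mem_center_iff.2 fun g => by
    have : E ⊔ R ≤ Subgroup.centralizer {x} := sup_le
      (fun e he => Subgroup.mem_centralizer_singleton_iff.2 (e1 x hx e he))
      fun e he => Subgroup.mem_centralizer_singleton_iff.2 (e2 x hx e he)
    exact Subgroup.mem_centralizer_singleton_iff.1 (this (h2 ▸ trivial))
  have hC : R ≤ Subgroup.center G := c (fun x hx e he => h1 e he x hx) fun x hx e he =>
    congrArg Subtype.val (hR.commGroup.mul_comm ⟨e, he⟩ ⟨x, hx⟩)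
  have : R.Normal := ⟨fun n hn g => by rwa [Subgroup.mem_center_iff.1 (hC hn) g, mul_inv_cancel_right]⟩
  obtain ⟨x, hx, r, hr, rfl⟩ := Subgroup.mem_sup_of_normal_right.1 (h2 ▸ Subgroup.mem_top a)
  obtain ⟨y, hy, s, hs, rfl⟩ := Subgroup.mem_sup_of_normal_right.1 (h2 ▸ Subgroup.mem_top b)
  rw [show x * r * (y * s) * (x * r)⁻¹ * (y * s)⁻¹ = x * y * x⁻¹ * y⁻¹ by
    rw [mul_assoc x r, ← Subgroup.mem_center_iff.1 (hC hr), mul_inv_rev x, ← mul_assoc, ← mul_assoc,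
      mul_inv_cancel_right, ← mul_assoc, mul_assoc _ s, ← Subgroup.mem_center_iff.1 (hC hs)]
    group]
  rcases h3 with rfl | ⟨⟨-, -, h6⟩, h7⟩
  · simp [Subgroup.mem_bot.1 hx]
  have m : (⟨x, hx⟩ * ⟨y, hy⟩ * ⟨x, hx⟩⁻¹ * ⟨y, hy⟩⁻¹ : E) ∈ Subgroup.center E :=
    h6.le (Subgroup.commutator_mem_commutator (Subgroup.mem_top _) (Subgroup.mem_top _))
  refine ⟨c (S := (Subgroup.center E).map E.subtype) ?_ ?_ ⟨_, m, rfl⟩, ?_⟩
  · rintro _ ⟨z, hz, rfl⟩ e he
    exact congrArg Subtype.val (Subgroup.mem_center_iff.1 hz ⟨e, he⟩)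
  · rintro _ ⟨z, -, rfl⟩ e he
    exact (h1 z z.2 e he).symm
  · exact congrArg (fun z : Subgroup.center E => z.1.1) (h7 ▸ pow_card_eq_one' (x := (⟨_, m⟩ : Subgroup.center E)))

variable {F : Type*} {V : Type v} [Field F] [AddCommGroup V] [Module F V]
  {R M K L : Subgroup (V ≃ₗ[F] V)}

/-- An absolutely irreducible group of commuting or anticommuting elements of order dividing four. -/
structure Pauli (R : Subgroup (V ≃ₗ[F] V)) : Prop where
  two : (2 : F) ≠ 0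
  nt : Nontrivial V
  comm : ∀ a b : R, rho R a * rho R b = rho R b * rho R a ∨ rho R a * rho R b = -(rho R b * rho R a)
  four : ∀ a : R, a ^ 4 = 1
  span : Spn (⊤ : Subgroup R)

variable (M R) in
/-- The scalar multiples of elements of `R` in `M`. -/
def Pm : Subgroup M where
  carrier := {g | ∃ (r : R) (c : F), rho M g = c • rho R r}
  mul_mem' := by
    rintro a b ⟨r, c, e⟩ ⟨s, d, e'⟩
    exact ⟨r * s, c * d, by rw [map_mul, map_mul, e, e', smul_mul_smul_comm]⟩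
  one_mem' := ⟨1, 1, by simp⟩
  inv_mem' := by
    rintro a ⟨r, c, e⟩
    by_cases c0 : c = 0
    · refine ⟨1, 0, ?_⟩
      rw [← mul_one (rho M a⁻¹), ← ρ_mul_inv (ρ := rho M) a, e, c0]
      simp
    refine ⟨r⁻¹, c⁻¹, ρ_left_cancel (ρ := rho M) a ?_⟩
    rw [ρ_mul_inv, e, smul_mul_smul_comm, ρ_mul_inv, mul_inv_cancel₀ c0, one_smul]

theorem mem_Pm {g : M} (hg : g.1 ∈ R) : g ∈ Pm R M := ⟨⟨g, hg⟩, 1, (one_smul ..).symm⟩

namespace Pauli

variable (h : Pauli R)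
include h

theorem spn (hM : R ≤ M) : Spn (Pm R M) := eq_top_iff.2 (h.span.ge.trans (Submodule.span_mono (by
  rintro _ ⟨r, -, rfl⟩
  exact ⟨⟨r, hM r.2⟩, mem_Pm r.2, rfl⟩)))

theorem exists_pd [Finite V] (hM : R ≤ M) : ∃ (E : Type v) (_ : AddCommGroup E) (_ : Module F2 E)
    (_ : Finite E) (π : M → E) (B : E →ₗ[F2] E →ₗ[F2] F2), PD F (rho M) (Pm R M) π B := by
  have : Finite (V ≃ₗ[F] V) := Finite.of_injective _ DFunLike.coe_injective
  have := h.nt
  refine C6P.exists_pd rho_inj h.two one_ne_zero (fun g ⟨c, e⟩ => ⟨1, c, by rw [e, map_one]⟩) ?_ ?_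
    (h.spn hM).cent
  · rintro a ⟨r, c, e⟩ b ⟨s, d, e'⟩
    rw [e, e', smul_mul_smul_comm, smul_mul_smul_comm, mul_comm d, ← smul_neg]
    exact (h.comm r s).imp (congrArg _) (congrArg _)
  · rintro a ⟨r, c, e⟩
    obtain ⟨d, hd⟩ := h.span.cent (rho R r * rho R r) fun s _ => by
      rcases h.comm r s with e | e <;> rw [mul_assoc, e] <;> simp [← mul_assoc, e]
    exact ⟨c * c * d, by rw [map_mul, e, smul_mul_smul_comm, hd, smul_smul]⟩

theorem sq (r : R) : rho R r * rho R r = 1 ∨ rho R r * rho R r = -1 := by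
  have := h.nt
  obtain ⟨d, hd⟩ := h.span.cent (rho R r * rho R r) fun s _ => by
    rcases h.comm r s with e | e <;> rw [mul_assoc, e] <;> simp [← mul_assoc, e]
  have e : (d * d) • (1 : End F V) = (1 : F) • 1 := by
    have := congrArg (rho R) (h.four r)
    rwa [map_pow, show 4 = 2 * 2 from rfl, pow_mul, pow_two, pow_two, hd, smul_mul_smul_comm, one_mul,
      map_one, ← one_smul F (1 : End F V), smul_smul, mul_one] at this
  rcases mul_self_eq_one_iff.1 (smul_left_injective F one_ne_zero e) with rfl | rfl <;> simp [hd]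

variable (hZ : ∀ g : L, Sc F (rho L) g → g ^ 4 = 1 → g.1 ∈ R) (hL : R ≤ L)
include hZ hL

theorem mem_of_pow (hM : M ≤ L) {g : M} (hg : g ∈ Pm R M) (e : g ^ 4 = 1) : g.1 ∈ R := by
  obtain ⟨r, c, hc⟩ := hg
  have e1 : rho L (⟨g, hM g.2⟩ * ⟨r, hL r.2⟩⁻¹) = c • 1 := by
    rw [map_mul, show rho L ⟨g, hM g.2⟩ = c • rho L ⟨r, hL r.2⟩ from hc, smul_mul_assoc, ρ_mul_inv]
  have := hZ _ ⟨c, e1⟩ (rho_inj (by
    have e2 := congrArg (rho M) e
    rw [map_pow, hc, smul_pow, ← map_pow, h.four, map_one, map_one] at e2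
    rw [map_pow, e1, smul_pow, one_pow, e2, map_one]))
  exact (R.mul_mem_cancel_right (R.inv_mem r.2)).1 this

theorem le_normalizer (hM : M ≤ L) [Finite V] (hR : R ≤ M) (hP : (Pm R M).Normal) :
    M ≤ Subgroup.normalizer (R : Set (V ≃ₗ[F] V)) := fun g hg => by
  have : Finite (V ≃ₗ[F] V) := Finite.of_injective _ DFunLike.coe_injective
  refine mem_normalizer_of fun a ha => h.mem_of_pow hZ hL hM
    (hP.conj_mem ⟨a, hR ha⟩ (mem_Pm ha) ⟨g, hg⟩) ?_
  rw [conj_pow, show (⟨a, hR ha⟩ : M) ^ 4 = 1 from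
    Subtype.ext (congrArg Subtype.val (h.four ⟨a, ha⟩) :),
    mul_one, mul_inv_cancel]

theorem main [Finite V] (hKL : K ≤ L) (hK : ∀ a ∈ L, ∀ b ∈ L, a * b * a⁻¹ * b⁻¹ ∈ K)
    (hT : ∀ a b : L, rho L a * rho L a = -1 → rho L b * rho L b = -1 → ∃ g, IsTT F (rho L) g a b)
    (H : ∀ (E : Type v) [AddCommGroup E] [Module F2 E] [Finite E] (π : L → E) B,
      PD F (rho L) (Pm R L) π B → (∀ a b, ∃ c, T (rho L) (Pm R L) π c ∧ B a (π c) = 0 ∧ B b (π c) = 0) ∧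
      ∀ a b, a ≠ 0 → b ≠ 0 → ∃ c, T (rho L) (Pm R L) π c ∧ B a (π c) = 1 ∧ B b (π c) = 1)
    (H' : ∀ M, R ≤ M → M ≤ K → ∀ (E : Type v) [AddCommGroup E] [Module F2 E] [Finite E] (π : M → E) B,
      PD F (rho M) (Pm R M) π B → TT F (rho M) (Pm R M) π → (Pm R M).Normal ∨ K ≤ M) :
    R ≤ K ∧ ∀ M, Subgroup.normalizer (R : Set (V ≃ₗ[F] V)) ⊓ K ≤ M → M ≤ K →
      M ≤ Subgroup.normalizer (R : Set (V ≃ₗ[F] V)) ∨ K ≤ M := by
  have : Finite (V ≃ₗ[F] V) := Finite.of_injective _ DFunLike.coe_injective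
  obtain ⟨E, _, _, _, π, B, d⟩ := h.exists_pd hL
  obtain ⟨k1, k2⟩ := d.tt_mem (fun x x' hx hx' => hT x x' hx.sq hx'.sq) (K := K.subgroupOf L)
    (fun a b => hK a a.2 b b.2) (H E π B d).1 (H E π B d).2
  have hR : R ≤ K := fun r hr => k2 ⟨r, hL hr⟩ (mem_Pm hr) (h.sq ⟨r, hr⟩)
  refine ⟨hR, fun M h1 h2 => ?_⟩
  have h3 : R ≤ M := fun r hr => h1 ⟨Subgroup.le_normalizer hr, hR hr⟩
  obtain ⟨E', _, _, _, π', B', d'⟩ := h.exists_pd h3
  refine (H' M h3 h2 E' π' B' d' fun x x' hx hx' => ?_).imp_left (h.le_normalizer hZ hL (h2.trans hKL) h3)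
  have t : ∀ x, T (rho M) (Pm R M) π' x → T (rho L) (Pm R L) π ⟨x, hKL (h2 x.2)⟩ := fun x hx =>
    ⟨hx.mem, hx.sq, fun e => hx.ne ((d'.ker x hx.mem).2 ((d.ker _ hx.mem).1 e))⟩
  obtain ⟨g, g1, g2⟩ := k1 _ _ (t x hx) (t x' hx')
  refine ⟨⟨g, h1 ⟨mem_normalizer_of fun a ha => h.mem_of_pow hZ hL le_rfl
    (d.tt_conj g2 (t x hx) (t x' hx') (a := ⟨a, hL ha⟩) (mem_Pm ha)).1 ?_, g1⟩⟩, g2⟩
  rw [conj_pow, show (⟨a, hL ha⟩ : L) ^ 4 = 1 from
    Subtype.ext (congrArg Subtype.val (h.four ⟨a, ha⟩) :),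
    mul_one, mul_inv_cancel]

end Pauli

variable {ι : Type} [Fintype ι] [DecidableEq ι] [Finite F] {R Ω : Subgroup (GL ι F)}

theorem pauli_of [Nonempty ι] (h2 : (2 : F) ≠ 0) (hR : Geo.IsSymplecticTypeGroup 2 R)
    (hi : Geo.ActsAbsolutelyIrreducibly (Geo.matrixSet R)) :
    Pauli (R.map (glEquiv ι F).toMonoidHom) := by
  have e4 : Monoid.exponent R = 4 := hR.exponent_eq
  refine ⟨h2, inferInstance, ?_, ?_, eq_top_iff.2 fun f _ => ?_⟩
  · rintro ⟨_, a, ha, rfl⟩ ⟨_, b, hb, rfl⟩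
    obtain ⟨k1, k2⟩ := comm_of_symp hR.pGroup hR.cyclic_of_characteristic e4 ⟨a, ha⟩ ⟨b, hb⟩
    obtain ⟨c, hc⟩ := hi.2 (a * b * a⁻¹ * b⁻¹ : GL ι F) (by
      rintro _ ⟨s, hs, rfl⟩
      exact congrArg (fun u : R => (u.1 : Matrix ι ι F)) (Subgroup.mem_center_iff.1 k1 ⟨s, hs⟩).symm)
    have k3 : (a * b * a⁻¹ * b⁻¹ : GL ι F).1 ^ 2 = 1 := congrArg (fun u : R => (u.1 : Matrix ι ι F)) k2
    rw [hc, smul_pow, one_pow, ← one_smul F (1 : Matrix ι ι F), smul_smul, mul_one] at k3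
    have k4 : (a : Matrix ι ι F) * b = c • ((b : Matrix ι ι F) * a) := by
      rw [← one_mul ((b : Matrix ι ι F) * a), ← smul_mul_assoc, ← hc, ← Units.val_mul, ← Units.val_mul,
        ← Units.val_mul]
      congr 1
      group
    have k5 := congrArg Matrix.toLin' k4
    rw [map_smul, Matrix.toLin'_mul, Matrix.toLin'_mul] at k5
    refine (sq_eq_one_iff.1 (smul_left_injective F one_ne_zero k3)).imp (fun e => ?_) fun e => ?_
    · rw [e, one_smul] at k5; exact k5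
    · rw [e] at k5; exact k5.trans (neg_one_smul F (Matrix.toLin' b.1 ∘ₗ Matrix.toLin' a.1))
  · rintro ⟨_, a, ha, rfl⟩
    refine Subtype.ext ?_
    change glEquiv ι F a ^ 4 = 1
    rw [← map_pow, show a ^ 4 = 1 from congrArg Subtype.val (e4 ▸ Monoid.pow_exponent_eq_one (⟨a, ha⟩ : R)),
      map_one]
  set S := rho (R.map (glEquiv ι F).toMonoidHom) '' (⊤ : Subgroup (R.map (glEquiv ι F).toMonoidHom))
  have m : ∀ s ∈ R, Matrix.toLin' s.1 ∈ S := fun s hs => ⟨⟨_, s, hs, rfl⟩, trivial, rfl⟩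
  let A : Subalgebra F (End F (ι → F)) := Algebra.adjoin F S
  have : IsSimpleModule A (ι → F) := by
    rw [isSimpleModule_iff]
    refine ⟨fun N => (hi.1 (N.restrictScalars F) ?_).imp (fun e => ?_) fun e => ?_⟩
    · rintro _ ⟨s, hs, rfl⟩ _ ⟨v, hv, rfl⟩
      exact N.smul_mem ⟨_, Algebra.subset_adjoin (m s hs)⟩ hv
    · exact Submodule.restrictScalars_injective F _ _ e
    · exact Submodule.restrictScalars_injective F _ _ e
  have := Fintype.ofFinite (ι → F)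
  obtain ⟨r, hr⟩ := jacobson_density (R := A) (M := ι → F) ⟨⟨f, map_add f⟩, fun δ k => by
    obtain ⟨c, hc⟩ := hi.2 (LinearMap.toMatrix' (δ.restrictScalars F)) (by
      rintro _ ⟨s, hs, rfl⟩
      refine Matrix.toLin'.injective ?_
      rw [Matrix.toLin'_mul, Matrix.toLin'_mul, Matrix.toLin'_toMatrix']
      exact LinearMap.ext fun v => δ.map_smul ⟨_, Algebra.subset_adjoin (m s hs)⟩ v)
    have e : ∀ v, δ v = c • v := fun v => by
      simpa using LinearMap.congr_fun (congrArg Matrix.toLin' hc) v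
    change f (δ k) = δ (f k)
    rw [e, e, map_smul]⟩ Finset.univ
  rw [show f = r.1 from LinearMap.ext fun k => hr k (Finset.mem_univ k)]
  refine Algebra.adjoin_induction (fun x hx => Submodule.subset_span hx) (fun c => ?_)
    (fun _ _ _ _ => Submodule.add_mem _) (fun x y _ _ hx hy => ?_) r.2
  · rw [Algebra.algebraMap_eq_smul_one]
    exact Submodule.smul_mem _ _ (Submodule.subset_span ⟨1, trivial, map_one _⟩)
  · refine (Submodule.span_mul_span (R := F) S S).le.trans (Submodule.span_mono ?_) (Submodule.mul_mem_mul hx hy)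
    rintro _ ⟨_, ⟨a, -, rfl⟩, _, ⟨b, -, rfl⟩, rfl⟩
    exact ⟨a * b, trivial, map_mul ..⟩

theorem isMaximalIn_of_pauli (h2 : 2 ≤ Fintype.card ι) (hΩ : Asch.QS Ω)
    {K : Subgroup ((ι → F) ≃ₗ[F] (ι → F))} (hK : ∀ g, g ∈ Ω ↔ glEquiv ι F g ∈ K)
    (hR : Geo.IsSymplecticTypeGroup 2 R) (hi : Geo.ActsAbsolutelyIrreducibly (Geo.matrixSet R))
    (H : R.map (glEquiv ι F).toMonoidHom ≤ K ∧ ∀ M, Subgroup.normalizer
      (R.map (glEquiv ι F).toMonoidHom : Set ((ι → F) ≃ₗ[F] (ι → F))) ⊓ K ≤ M → M ≤ K →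
      M ≤ Subgroup.normalizer (R.map (glEquiv ι F).toMonoidHom : Set ((ι → F) ≃ₗ[F] (ι → F))) ∨ K ≤ M) :
    Geo.IsMaximalIn Ω (Geo.subgroupNormalizer R ⊓ Ω) := by
  have e : ∀ g, g ∈ Geo.subgroupNormalizer R ↔ glEquiv ι F g ∈ Subgroup.normalizer
      (R.map (glEquiv ι F).toMonoidHom : Set ((ι → F) ≃ₗ[F] (ι → F))) := fun g => by
    rw [← Subgroup.map_equiv_normalizer_eq, Subgroup.mem_map_equiv]
    simp [Geo.subgroupNormalizer]
  refine isMaximalIn_of_equiv (glEquiv ι F) hK (fun g => (and_congr (e g) (hK g)).trans Subgroup.mem_inf.symm)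
    (isMaximalIn_of inf_le_right ?_ fun M h1 h3 g hg hg' => (H.2 M h1 h3).resolve_left
      fun e => hg' ⟨e hg, h3 hg⟩)
  by_contra hc
  push Not at hc
  have i := Asch.irr_iff.2 hi.1
  rcases hΩ.simple R ⟨fun r hr => (hK r).2 (H.1 ⟨r, hr, rfl⟩), fun g hg x hx =>
    (Subgroup.mem_normalizer_iff.1 ((e g).2 (hc _ ((hK g).1 hg)).1) x).1 hx⟩ with h | h
  · exact i.not_le_scalars h2 h
  · have := Fact.mk Nat.prime_two
    have := hR.pGroup.isNilpotent
    refine i.not_le_scalars h2 ?_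
    rw [← h] at hΩ
    rcases R.bot_or_nontrivial with e | e
    · exact e ▸ bot_le
    have := Subgroup.map_subtype_lt_map_subtype.2 (Group.IsSolvable.commutator_lt_top_of_nontrivial R)
    rw [Subgroup.map_subtype_commutator, ← MonoidHom.range_eq_map, R.range_subtype] at this
    exact (this.ne hΩ.perfect).elim

end Cfsg.Agent.Class.C6P
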