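import Mathlib
import Cfsg.Agent.Class.C6P.Setup
import Cfsg.Agent.Class.C6P.UniB
import Cfsg.Agent.Class.Asch.UProp

/-!
Normalisers of symplectic type `2`-groups in linear and unitary groups.
-/

set_option autoImplicit false

namespace Cfsg.Agent.Class.C6P

open Module Cfsg.Agent.Class.Max

universe v

theorem exists_nat_of_pow {F : Type*} [Field F] {p : ℕ} (hp : p.Prime) [CharP F p] {a : F}
    (ha : a ^ p = a) : ∃ n : ℕ, a = n := by
  have := Fact.mk hp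
  rw [← Subfield.mem_bot_iff_pow_eq_self, ← ZMod.fieldRange_castHom_eq_bot p] at ha
  obtain ⟨x, rfl⟩ := ha
  exact ⟨x.val, by simp⟩

theorem charP_of_card {F : Type*} [Field F] [Fintype F] {p k : ℕ} (hp : p.Prime)
    (hF : Fintype.card F = p ^ k) : CharP F p :=
  have := Fact.mk hp
  charP_of_card_eq_prime_pow hF

theorem cast_ne_zero_of {F : Type*} [Field F] {p r : ℕ} (hp : p.Prime) [CharP F p] (hr : r.Prime)
    (h : p ≠ r) : (r : F) ≠ 0 := fun e =>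
  h ((Nat.prime_dvd_prime_iff_eq hp hr).1 ((CharP.cast_eq_zero_iff F p r).1 e))

variable {F : Type*} {V : Type v} [Field F] [AddCommGroup V] [Module F V]
  {R M K L : Subgroup (V ≃ₗ[F] V)}

theorem exists_tt (h2 : (2 : F) ≠ 0) {a b : End F V} (ha : a * a = -1) (hb : b * b = -1) :
    ∃ g : V ≃ₗ[F] V, g.toLinearMap = (2 : F)⁻¹ • ((1 + a) * (1 + b)) := by
  refine ⟨LinearEquiv.ofLinearMap _ ((2 : F)⁻¹ • ((1 - b) * (1 - a))) ?_ ?_, rfl⟩ <;>
    rw [← End.mul_eq_comp, ← End.one_eq_id, smul_mul_smul_comm, mul_assoc]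
  · rw [← mul_assoc (1 + b), PD.one_add_mul_one_sub (F := F) hb, smul_mul_assoc, one_mul, mul_smul_comm,
      PD.one_add_mul_one_sub (F := F) ha, smul_smul, smul_smul]
    simp [h2]
  · rw [← mul_assoc (1 - a), PD.one_sub_mul_one_add (F := F) ha, smul_mul_assoc, one_mul, mul_smul_comm,
      PD.one_sub_mul_one_add (F := F) hb, smul_smul, smul_smul]
    simp [h2]

theorem exists_tt_iso (h2 : (2 : F) ≠ 0) {Φ : Fm F V} (a b : Φ.Iso) (ha : rho _ a * rho _ a = -1)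
    (hb : rho _ b * rho _ b = -1) : ∃ g, IsTT F (rho Φ.Iso) g a b := by
  obtain ⟨g, hg⟩ := exists_tt h2 ha hb
  have k : ∀ a : Φ.Iso, rho _ a * rho _ a = -1 → ∀ x y, Φ.B (x + a.1 x) (y + a.1 y) = 2 * Φ.B x y :=
    fun a ha x y => by
      have := Fm.Iso.B a.2 x (a.1 y)
      rw [show a.1 (a.1 y) = -y from LinearMap.congr_fun ha y] at this
      simp only [Φ.bsimp, Fm.Iso.B a.2, ← this]
      ring
  refine ⟨⟨g, mem_Iso_of_B h2 fun x y => ?_⟩, _, hg⟩
  have e : ∀ x, g x = (2 : F)⁻¹ • (x + b.1 x + a.1 (x + b.1 x)) := LinearMap.congr_fun hg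
  rw [e, e, Φ.B_smul_left, Φ.B_smul_right, k a ha, k b hb, map_inv₀, map_ofNat]
  field_simp

namespace Pauli

variable (h : Pauli R) {i : F} (hi : i * i = -1) {j : R} (hj : rho R j = i • 1)
include h hi hj

theorem lift (hM : R ≤ M) {E : Type*} [AddCommGroup E] [Module F2 E] {π : M → E}
    {B : E →ₗ[F2] E →ₗ[F2] F2} (d : PD F (rho M) (Pm R M) π B) (u : E) (hu : u ≠ 0) :
    ∃ x, T (rho M) (Pm R M) π x ∧ π x = u := by
  obtain ⟨a, ⟨r, c, e⟩, rfl⟩ := d.surj u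
  have e' := d.π_of_smul (b := ⟨r, hM r.2⟩) (mem_Pm r.2) e
  rw [e'] at hu ⊢
  rcases h.sq r with e | e
  · exact ⟨_, d.j_Iv hi (j := ⟨j, hM j.2⟩) hj ⟨mem_Pm r.2, e, hu⟩, (d.j_mul hi hj (mem_Pm r.2)).2.2.1⟩
  · exact ⟨_, ⟨mem_Pm r.2, e, hu⟩, rfl⟩

theorem main_lu [Finite V] (h4 : 4 ≤ finrank F V) (hL : R ≤ L) (hKL : K ≤ L)
    (hK : ∀ a ∈ L, ∀ b ∈ L, a * b * a⁻¹ * b⁻¹ ∈ K)
    (hT : ∀ a b : L, rho L a * rho L a = -1 → rho L b * rho L b = -1 → ∃ g, IsTT F (rho L) g a b)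
    (H : ∀ M, M ≤ K → ∀ (P : Subgroup M) (E : Type v) [AddCommGroup E] [Module F2 E] [Finite E]
      (π : M → E) B, LU P π B i → 3 ≤ finrank F2 E → P.Normal ∨ K ≤ M) :
    R ≤ K ∧ ∀ M, Subgroup.normalizer (R : Set (V ≃ₗ[F] V)) ⊓ K ≤ M → M ≤ K →
      M ≤ Subgroup.normalizer (R : Set (V ≃ₗ[F] V)) ∨ K ≤ M := by
  have k : ∀ M, R ≤ M → ∀ (E : Type v) [AddCommGroup E] [Module F2 E] [Finite E] (π : M → E) B,
      PD F (rho M) (Pm R M) π B → 3 ≤ finrank F2 E := fun M hM E _ _ _ π B d => by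
    by_contra hc
    have := (Spn.finrank_le d (h.spn hM)).trans (Nat.pow_le_pow_right two_pos (show _ ≤ 2 by omega))
    nlinarith
  refine h.main (fun g hg e' => ?_) hL hKL hK hT (fun E _ _ _ π B d => ⟨fun a b => ?_,
    fun a b ha hb => ?_⟩) fun M h1 h2 E _ _ _ π B d t => H M h2 _ E π B
      ⟨d, h.spn h1, t, hi, ⟨⟨j, h1 j.2⟩, hj⟩, h.lift hi hj h1 d⟩ (k M h1 E π B d)
  · have := h.nt
    obtain ⟨c, e⟩ := hg
    have e1 := congrArg (rho L) e'
    rw [map_pow, e, smul_pow, one_pow, map_one, ← one_smul F (1 : End F V), smul_smul, mul_one] at e1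
    have e2 : (c - i ^ 0) * (c - i ^ 1) * (c - i ^ 2) * (c - i ^ 3) = 0 := by
      have := smul_left_injective F one_ne_zero e1
      grind
    obtain ⟨n, rfl⟩ : ∃ n : ℕ, c = i ^ n := by
      simp only [mul_eq_zero, sub_eq_zero] at e2
      rcases e2 with ((e | e) | e) | e <;> exact ⟨_, e⟩
    have e3 : rho R (j ^ n) = rho L g := by rw [map_pow, hj, e, smul_pow, one_pow]
    exact (LinearEquiv.toLinearMap_injective e3 : (j ^ n).1 = g.1) ▸ (j ^ n).2
  · obtain ⟨w, w0, w1⟩ := d.sy.ex_perp_zero [a, b] (k L hL E π B d)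
    obtain ⟨c, hc, rfl⟩ := h.lift hi hj hL d w w0
    exact ⟨c, hc, w1 a (by simp), w1 b (by simp)⟩
  · obtain ⟨w, w0, w1⟩ := d.sy.ex11 ha hb
    obtain ⟨c, hc, rfl⟩ := h.lift hi hj hL d w (by rintro rfl; simp at w0)
    exact ⟨c, hc, w0, w1⟩

end Pauli

theorem exists_j {ι : Type} [Fintype ι] [DecidableEq ι] [Nonempty ι] {R : Subgroup (GL ι F)}
    (hR : Geo.IsSymplecticTypeGroup 2 R) (hi : Geo.ActsAbsolutelyIrreducibly (Geo.matrixSet R))
    (hZ : Nat.card (Subgroup.center R) = 4) :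
    ∃ i : F, i * i = -1 ∧ ∃ j : R.map (glEquiv ι F).toMonoidHom, rho _ j = i • 1 := by
  obtain ⟨z, hz⟩ := (hR.cyclic_of_characteristic (Subgroup.center R) inferInstance
    inferInstance).exists_ofOrder_eq_natCard
  obtain ⟨c, hc⟩ := hi.2 z.1.1 (by
    rintro _ ⟨s, hs, rfl⟩
    exact congrArg (fun u : R => (u.1 : Matrix ι ι F)) (Subgroup.mem_center_iff.1 z.2 ⟨s, hs⟩).symm)
  have e : ∀ n, z ^ n = 1 ↔ c ^ n = 1 := fun n => by
    rw [Subtype.ext_iff, Subtype.ext_iff, Units.ext_iff]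
    simp only [SubmonoidClass.coe_pow, Units.val_pow_eq_pow_val, hc, smul_pow, one_pow,
      OneMemClass.coe_one, Units.val_one]
    exact ⟨fun e => smul_left_injective F one_ne_zero (e.trans (one_smul F _).symm), by simp +contextual⟩
  have e1 := (e 4).1 (hZ ▸ hz ▸ pow_orderOf_eq_one z)
  have e2 := mt (e 2).2 (pow_ne_one_of_lt_orderOf two_ne_zero (by omega))
  refine ⟨c, (mul_self_eq_one_iff.1 (by linear_combination e1)).resolve_left (by rwa [← pow_two]),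
    ⟨_, z.1.1, z.1.2, rfl⟩, ?_⟩
  change Matrix.toLin' z.1.1.1 = _
  rw [hc, map_smul, Matrix.toLin'_one, End.one_eq_id]

theorem comm_mem_SLV (a b : V ≃ₗ[F] V) : a * b * a⁻¹ * b⁻¹ ∈ SLV F V := by
  simp [SLV, mul_right_comm]

theorem sl_isMaximalIn [Fintype F] {ι : Type} [Fintype ι] [DecidableEq ι] {p : ℕ} (hp : p.Prime)
    (hF : Fintype.card F = p) (h4 : p % 4 = 1) (hn : 4 ≤ Fintype.card ι) {R : Subgroup (GL ι F)}
    (hR : Geo.IsSymplecticTypeGroup 2 R) (hi : Geo.ActsAbsolutelyIrreducibly (Geo.matrixSet R))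
    (hZ : Nat.card (Subgroup.center R) = 4) :
    Geo.IsMaximalIn (Geo.specialLinear ι F) (Geo.subgroupNormalizer R ⊓ Geo.specialLinear ι F) := by
  have : Nonempty ι := Fintype.card_pos_iff.1 (by omega)
  have := charP_of_card hp (hF.trans (pow_one p).symm)
  have h2 : (2 : F) ≠ 0 := cast_ne_zero_of hp Nat.prime_two (by rintro rfl; simp at h4)
  obtain ⟨i, i1, j, i2⟩ := exists_j hR hi hZ
  refine isMaximalIn_of_pauli (by omega) (Asch.qs_SL (by omega)) mem_specialLinear_iff hR hi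
    ((pauli_of h2 hR hi).main_lu i1 i2 (by simpa using hn) le_top le_top
      (fun a _ b _ => comm_mem_SLV a b) (fun a b ha hb => ?_) fun M _ P E _ _ _ π B h h3 =>
        thm_lin (fun a => exists_nat_of_pow hp (hF ▸ FiniteField.pow_card a))
          (cast_ne_zero_of hp Nat.prime_three (by rintro rfl; simp at h4)) _ rfl h fun _ => by omega)
  obtain ⟨g, hg⟩ := exists_tt h2 ha hb
  exact ⟨⟨g, trivial⟩, _, hg⟩

theorem su_isMaximalIn [Fintype F] {n q : ℕ} (hF : Fintype.card F = q ^ 2) (hp : q.Prime) (ho : q ≠ 2)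
    (hn : 4 ≤ n) {R : Subgroup (GL (Fin n) F)} (hR : Geo.IsSymplecticTypeGroup 2 R)
    (hi : Geo.ActsAbsolutelyIrreducibly (Geo.matrixSet R)) (hle : R ≤ GU n F q)
    (hZ : Nat.card (Subgroup.center R) = 4) :
    Geo.IsMaximalIn (GU n F q ⊓ Geo.specialLinear (Fin n) F)
      (Geo.subgroupNormalizer R ⊓ (GU n F q ⊓ Geo.specialLinear (Fin n) F)) := by
  have : Nonempty (Fin n) := ⟨⟨0, by omega⟩⟩
  have := U.UF.of_card hF
  have := charP_of_card hp hF
  have h2 : (2 : F) ≠ 0 := cast_ne_zero_of hp Nat.prime_two ho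
  obtain ⟨i, i1, j, i2⟩ := exists_j hR hi hZ
  refine isMaximalIn_of_pauli (by simp; omega) (Asch.qs_su (by omega) (by omega)) (mem_SU_iff n q) hR hi
    ((pauli_of h2 hR hi).main_lu i1 i2 (by simpa using hn) (L := (fmUStd F n q).Iso) ?_ (Fm.EG_le_Iso _)
      (fun a ha b hb => ?_) (exists_tt_iso h2) fun M hM P E _ _ _ π B h h3 =>
        (thm_uni _ rfl h (hM.trans (Fm.EG_le_Iso _))
          ⟨rfl, fun _ => rfl, le_rfl, fun a ha => exists_nat_of_pow hp ha⟩ fun _ => by omega).imp_right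
          And.left)
  · rintro _ ⟨g, hg, rfl⟩
    exact (mem_GU_iff_Iso n q g).1 (hle hg)
  · rw [EG_fmUStd]
    exact ⟨Subgroup.mul_mem _ (Subgroup.mul_mem _ (Subgroup.mul_mem _ ha hb) (Subgroup.inv_mem _ ha))
      (Subgroup.inv_mem _ hb), comm_mem_SLV a b⟩

end Cfsg.Agent.Class.C6P
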