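import Mathlib
import Cfsg.Agent.Class.C6P.SOC
import Cfsg.Agent.Class.C6P.InstLU
import Cfsg.Agent.Class.Max.C3Fm

/-!
The symplectic and orthogonal cases: centralisers of elements of order four when `-1` is not a square,
and the main theorem.
-/

set_option autoImplicit false

namespace Cfsg.Agent.Class.C6P

open Module Cfsg.Agent.Class.Max

universe v

variable {F : Type*} {V : Type v} [Field F] [AddCommGroup V] [Module F V] {Φ : Fm F V}
  {M : Subgroup (V ≃ₗ[F] V)} {P : Subgroup M} {E : Type*} [AddCommGroup E] [Module F2 E] {π : M → E}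
  {B : E →ₗ[F2] E →ₗ[F2] F2} {q : E → F2}

variable (F) in
/-- The field with a square root of `-1` adjoined. -/
abbrev Ki := QuadraticAlgebra F (-1) 0

section Uni

open QuadraticAlgebra

variable [Fact (∀ r : F, r ^ 2 ≠ -1 + 0 * r)] [Module (Ki F) V] [IsScalarTower F (Ki F) V] {x : M}
  (hs : ∀ (k : Ki F) v, k • v = k.re • v + k.im • rho M x v)
include hs

theorem exists_res {g : V ≃ₗ[F] V} (e : ∀ v, g (rho M x v) = rho M x (g v)) :
    ∃ k : V ≃ₗ[Ki F] V, res F k = g :=
  ⟨⟨⟨⟨g, g.map_add⟩, fun k v => by simp [hs, e]⟩, g.symm, g.left_inv, g.right_inv⟩, rfl⟩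

theorem comm_res (g : V ≃ₗ[Ki F] V) (v : V) : g (rho M x v) = rho M x (g v) := by
  simpa [hs] using g.map_smul ω v

omit hs in
theorem two_Ki (h2 : (2 : F) ≠ 0) : (2 : Ki F) ≠ 0 := fun e => h2 (congrArg re e)

namespace SO

variable (h : SO P π B Φ q) (hx : T (rho M) P π x)
include h hx

theorem pauli : Pauli ((P.map M.subtype).comap (res (K := Ki F) F)) := by
  have d := h.pd
  have x2 : ∀ v, rho M x (rho M x v) = -v := LinearMap.congr_fun hx.sq
  refine ⟨two_Ki d.two, by simpa using DFunLike.ne_iff.1 d.nt |>.elim fun v e => ⟨v, 0, e⟩, ?_, ?_,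
    eq_top_iff.2 fun a _ => ?_⟩
  · rintro ⟨a, r, hr, e⟩ ⟨b, s, hs, e'⟩
    have e1 : ∀ v, a v = rho M r v := fun v => (LinearEquiv.congr_fun e v).symm
    have e2 : ∀ v, b v = rho M s v := fun v => (LinearEquiv.congr_fun e' v).symm
    refine (f2_cases (B (π r) (π s))).imp (fun e => LinearMap.ext fun v => ?_) fun e =>
      LinearMap.ext fun v => ?_
    · simpa [rho_apply (M := Subgroup.comap _ _), e1, e2] using LinearMap.congr_fun (d.comm0 r hr s hs e) v
    · simpa [rho_apply (M := Subgroup.comap _ _), e1, e2] using LinearMap.congr_fun (d.comm1 r hr s hs e) v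
  · rintro ⟨a, r, hr, e⟩
    have e1 : ∀ v, a v = rho M r v := fun v => (LinearEquiv.congr_fun e v).symm
    refine Subtype.ext (LinearEquiv.ext fun v => ?_)
    have : rho M r * rho M r * (rho M r * rho M r) = 1 := by rcases h.sq hr with e | e <;> simp [e]
    simpa [pow_succ, e1] using LinearMap.congr_fun this v
  · have key : ∀ b : End F V, ∃ c ∈ Submodule.span (Ki F)
        (rho ((P.map M.subtype).comap (res (K := Ki F) F)) ''
          (⊤ : Subgroup ((P.map M.subtype).comap (res (K := Ki F) F)))),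
        ∀ v, (2 : F) • c v = b v - rho M x (b (rho M x v)) := by
      refine h.spn.ind (fun r hr => ?_) ⟨0, zero_mem _, by simp⟩ ?_ ?_
      · rcases f2_cases (B (π r) (π x)) with e | e
        · have e1 := LinearMap.congr_fun (d.comm0 r hr x hx.mem e)
          obtain ⟨k, hk⟩ := exists_res hs (g := r.1) e1
          refine ⟨_, Submodule.subset_span ⟨⟨k, r, hr, hk.symm⟩, trivial, rfl⟩, fun v => ?_⟩
          rw [show rho M r (rho M x v) = _ from e1 v, End.mul_apply, x2, sub_neg_eq_add, two_smul]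
          exact congrArg₂ (· + ·) (LinearEquiv.congr_fun hk v) (LinearEquiv.congr_fun hk v)
        · exact ⟨0, zero_mem _, fun v => by
            simp [show rho M r (rho M x v) = _ from LinearMap.congr_fun (d.comm1 r hr x hx.mem e) v, x2]⟩
      · rintro _ _ ⟨c, h1, e⟩ ⟨c', h2, e'⟩
        refine ⟨_, add_mem h1 h2, fun v => ?_⟩
        simp only [LinearMap.add_apply, smul_add, e, e', map_add]
        abel
      · rintro t _ ⟨c, h1, e⟩
        refine ⟨_, Submodule.smul_mem _ (algebraMap F (Ki F) t) h1, fun v => ?_⟩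
        rw [LinearMap.smul_apply, algebraMap_smul, smul_comm, e]
        simp [smul_sub]
    obtain ⟨c, hc, e⟩ := key (a.restrictScalars F)
    have e1 : ∀ v, a (rho M x v) = rho M x (a v) := fun v => by simpa [hs] using a.map_smul ω v
    rwa [show a = c from LinearMap.ext fun v => smul_right_injective V d.two (by
      simp only [e, LinearMap.restrictScalars_apply, e1, x2, sub_neg_eq_add, two_smul])]

theorem exists_herm [Finite F] : ∃ Ψ : Fm (Ki F) V, Ψ.ε = 1 ∧ (∀ c, Ψ.π c = c + Ψ.σ c) ∧ Ψ.d = 2 ∧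
    (∀ c, Ψ.σ c = star c) ∧
    ∀ v u, Ψ.B v u = ⟨1 + Φ.ε, 1 - Φ.ε⟩ * ⟨Φ.B v u, Φ.B (rho M x v) u⟩ := by
  have : Finite (Ki F) := Finite.of_equiv _ (equivProd _ _).symm
  have h2 := h.pd.two
  have x2 : ∀ v, rho M x (rho M x v) = -v := LinearMap.congr_fun hx.sq
  have x3 : ∀ v u, Φ.B v (rho M x u) = -Φ.B (rho M x v) u := fun v u => by
    rw [← Fm.Iso.B (h.iso x.2), ← rho_apply x (rho M x u), x2, map_neg, rho_apply]
  have e := Φ.eps_sq
  refine ⟨fmHerm (σ := starRingEnd (Ki F)) (fun e => h2 (by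
      have := congrArg im (RingHom.congr_fun e ω)
      simp [starRingEnd_apply] at this
      linear_combination -this)) star_star
    (LinearMap.mk₂'ₛₗ _ (RingHom.id _)
      (fun v u => ⟨1 + Φ.ε, 1 - Φ.ε⟩ * ⟨Φ.B v u, Φ.B (rho M x v) u⟩) (fun a b c => ?_)
      (fun a b c => ?_) (fun a b c => ?_) fun a b c => ?_) (fun a b => ?_) fun a ha => ?_,
    rfl, fun _ => rfl, rfl, fun _ => rfl, fun _ _ => rfl⟩
  · ext <;> simp <;> ring
  · ext <;> simp [hs, starRingEnd_apply, x2, h.σ] <;> ring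
  · ext <;> simp <;> ring
  · ext <;> simp [hs, x2, x3] <;> ring
  · have := Φ.symm (rho M x a) b
    rw [x3] at this
    ext <;> simp [starRingEnd_apply, Φ.symm a b, h.σ, neg_eq_iff_eq_neg.1 this] <;> grind
  · refine Φ.nondeg a fun b => ?_
    have := (mul_eq_zero.1 (ha b)).resolve_left fun e => h2 (by
      have := QuadraticAlgebra.ext_iff.1 e
      simp only [re_zero, im_zero] at this
      linear_combination this.1 + this.2)
    exact congrArg re this

theorem kn_uni' [Finite E] [Finite F] [Finite V] (hp : ∀ a : F, ∃ n : ℕ, a = n) :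
    KN P x ∨ BH Φ M (rho M x) := by
  have : Finite (Ki F) := Finite.of_equiv _ (equivProd _ _).symm
  have : Module.Finite F V := .of_finite
  have d := h.pd
  have R := h.pauli hs hx
  obtain ⟨Ψ, Ψ1, Ψ2, Ψ3, Ψ4, Ψ5⟩ := h.exists_herm hs hx
  have hu : Hu Ψ := ⟨Ψ1, Ψ2, Ψ3.le, fun a e => by
    obtain ⟨n, hn⟩ := hp a.re
    have := congrArg im (Ψ4 a ▸ e)
    exact ⟨n, QuadraticAlgebra.ext hn (eq_zero_of_eq_neg d.two (by simpa using this.symm))⟩⟩
  have hM : (P.map M.subtype).comap (res (K := Ki F) F) ≤ M.comap (res F) :=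
    Subgroup.comap_mono (Subgroup.map_subtype_le P)
  have i2 : (ω : Ki F) * ω = -1 := by ext <;> simp
  obtain ⟨j, hj⟩ := exists_res hs (g := x.1) fun _ => rfl
  have j1 : rho _ (⟨j, x, hx.mem, hj.symm⟩ : (P.map M.subtype).comap (res (K := Ki F) F)) = (ω : Ki F) • 1 :=
    LinearMap.ext fun v => (LinearEquiv.congr_fun hj v).trans (by simp [hs, rho_apply])
  have hZ : ∀ g : M.comap (res (K := Ki F) F), Sc (Ki F) (rho _) g → g ^ 4 = 1 →
      g.1 ∈ (P.map M.subtype).comap (res (K := Ki F) F) := fun g ⟨c, e⟩ e' => by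
    have := R.nt
    have e1 := congrArg (rho _) e'
    rw [map_pow, e, smul_pow, one_pow, map_one, ← one_smul (Ki F) (1 : End (Ki F) V), smul_smul,
      mul_one] at e1
    have e2 : (c - ω ^ 0) * (c - ω ^ 1) * (c - ω ^ 2) * (c - ω ^ 3) = 0 := by
      have := smul_left_injective (Ki F) one_ne_zero e1
      grind
    obtain ⟨n, rfl⟩ : ∃ n : ℕ, c = ω ^ n := by
      simp only [mul_eq_zero, sub_eq_zero] at e2
      rcases e2 with ((e | e) | e) | e <;> exact ⟨_, e⟩
    have e3 := (map_pow (rho _) _ n).trans ((congrArg (· ^ n) j1).trans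
      ((smul_pow ..).trans ((congrArg _ (one_pow n)).trans e.symm)))
    exact (LinearEquiv.toLinearMap_injective e3 : _ = g.1) ▸ Subtype.property _
  obtain ⟨E', _, _, _, π', B', d'⟩ := R.exists_pd hM
  have tt : TT (Ki F) (rho _) (Pm _ _) π' := fun t t' ht ht' => by
    have k : ∀ t, T (rho _) (Pm _ _) π' t → ∃ r, T (rho M) P π r ∧ ∀ v, rho M r v = rho _ t v :=
      fun t ht => by
        obtain ⟨r, r1, r2⟩ := R.mem_of_pow hZ hM le_rfl ht.mem (rho_inj (by
          rw [map_pow, show 4 = 2 * 2 from rfl, pow_mul, pow_two (rho _ t), ht.sq]; simp))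
        have e : ∀ v, rho M r v = rho _ t v := LinearEquiv.congr_fun r2
        exact ⟨r, h.isq.T r1 ((h.isq.one r r1).2 (LinearMap.ext fun v => by
          rw [End.mul_apply, e, e]; exact LinearMap.congr_fun ht.sq v)), e⟩
    obtain ⟨r, r1, r2⟩ := k t ht
    obtain ⟨s, s1, s2⟩ := k t' ht'
    obtain ⟨g, c, e⟩ := h.tt r s r1 s1
    obtain ⟨g', e'⟩ := exists_res hs (g := g.1) fun v => by
      simp [← rho_apply g, e, r2, s2, rho_apply t, rho_apply t', comm_res hs]
    exact ⟨⟨g', by simp [e']⟩, algebraMap F _ c, LinearMap.ext fun v =>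
      (LinearEquiv.congr_fun e' v).trans (by simp [← rho_apply g, e, r2, s2])⟩
  have l : LU (Pm _ _) π' B' (ω : Ki F) := ⟨d', R.spn hM, tt, i2, ⟨⟨j, hM ⟨x, hx.mem, hj.symm⟩⟩, j1⟩,
    R.lift i2 j1 hM d'⟩
  refine (thm_uni _ rfl l (fun g hg => mem_Iso_of_B R.two fun a b => by
    have := Fm.Iso.B (h.iso hg)
    simp only [res_apply] at this
    rw [Ψ5, Ψ5, ← comm_res hs, this, this]) hu fun e => absurd e (not_le.2 (le_of_sq_le (a := 4)
    (Spn.finrank_le d' l.spn) ?_ (by norm_num)))).imp (fun hN g hg r hr e => ?_)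
      fun hS v v1 v2 a b ha hb => ?_
  · have := finrank_mul_finrank F (Ki F) V
    rw [finrank_eq_two] at this
    rcases h.dim with e | e <;> omega
  · obtain ⟨g', g1⟩ := exists_res hs (g := g.1) (LinearMap.congr_fun (ρ_comm (ρ := rho M) hg))
    obtain ⟨r', r1⟩ := exists_res hs (g := r.1) (LinearMap.congr_fun (ρ_comm (ρ := rho M) e))
    obtain ⟨s, s1, s2⟩ := conj_mem (R.le_normalizer hZ hM le_rfl hM hN (x := g') (by simp [g1]))
      (a := r') ⟨r, hr, r1.symm⟩
    rwa [show g * r * g⁻¹ = s from Subtype.ext (by simpa [g1, r1] using s2.symm)]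
  · have e := Φ.eps_sq
    have h4 : (4 : F) ≠ 0 := by rw [show (4 : F) = 2 * 2 by norm_num]; exact mul_ne_zero d.two d.two
    obtain ⟨g, g1, g2⟩ := allTv_of_le hS.1 v (by rw [hu.Q_eq, Ψ5, v1, Φ.perp_symm v2]; exact mul_zero _)
      (⟨-4⁻¹, 0⟩ * ⟨a, b⟩ * ⟨1 + Φ.ε, Φ.ε - 1⟩) (by rw [Ψ2, Ψ4]; ext <;> simp; grind)
    refine ⟨_, g1, fun u => ?_⟩
    rw [res_apply, g2, hu.ef, Ψ5, hs]
    simp only [QuadraticAlgebra.re_mul, im_mul]
    match_scalars <;> grind

end SO

end Uni

namespace SO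

variable [Finite E] [Finite F] [Finite V] (h : SO P π B Φ q) (hp : ∀ a : F, ∃ n : ℕ, a = n)
include h hp

theorem kn_or {x : M} (hx : T (rho M) P π x) : KN P x ∨ BH Φ M (rho M x) := by
  by_cases hi : ∃ i : F, i * i = -1
  · exact h.kn_lin hp hi.choose_spec hx
  have : Fact (∀ r : F, r ^ 2 ≠ -1 + 0 * r) := ⟨fun r e => hi ⟨r, by linear_combination e⟩⟩
  let φ : Ki F →ₐ[F] End F V := QuadraticAlgebra.lift ⟨rho M x, by simp [hx.sq]⟩
  letI : Module (Ki F) V := Module.compHom V φ.toRingHom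
  have hs : ∀ (k : Ki F) v, k • v = k.re • v + k.im • rho M x v := fun _ _ => rfl
  have : IsScalarTower F (Ki F) V := ⟨fun a k v => by simp [hs, smul_smul]⟩
  exact h.kn_uni' hs hx hp

theorem main (H : Φ.ε = 1 ∧ (∀ c, Φ.π c = c) ∧ Φ.d ≤ 8 ∨ Φ.ε = -1 ∧ ∀ c, Φ.π c = 0) :
    P.Normal ∨ Φ.EG ≤ M := by
  have : Module.Finite F V := .of_finite
  by_cases hc : ∃ x, T (rho M) P π x ∧ BH Φ M (rho M x)
  · obtain ⟨x, h1, h2⟩ := hc
    exact .inr (H.elim (fun e => h.big_o hp (fun y hy => h.BH_all h1 hy h2) e.1 e.2.1 e.2.2)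
      fun e => h.big_sp hp (fun y hy => h.BH_all h1 hy h2) e.1 e.2)
  · exact .inl (h.normal_of_kn fun x hx => (h.kn_or hp hx).resolve_right fun e => hc ⟨x, hx, e⟩)

end SO

end Cfsg.Agent.Class.C6P
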