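import Mathlib
import Cfsg.Agent.Class.C6P.SOD
import Cfsg.Agent.Class.Asch.OBasic
import Cfsg.Agent.Class.Asch.SpProp

/-!
Normalisers of extraspecial `2`-groups in symplectic and orthogonal groups.
-/

set_option autoImplicit false

namespace Cfsg.Agent.Class.C6P

open Module Cfsg.Agent.Class.Max

universe v

variable {F : Type*} {V : Type v} [Field F] [AddCommGroup V] [Module F V]
  {R M : Subgroup (V ≃ₗ[F] V)} {Φ : Fm F V}

theorem minus_map {G H : Type*} [Group G] [Group H] {f : G →* H} (hf : Function.Injective f) {k : ℕ}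
    {R : Subgroup G} (h : Geo.IsOfMinusType k R) : Geo.IsOfMinusType k (R.map f) := fun A h1 h2 => by
  let e := R.equivMapOfInjective f hf
  rw [← Subgroup.card_map_of_injective (f := e.symm.toMonoidHom) e.symm.injective]
  refine h _ inferInstance ?_
  rintro _ ⟨x, hx, rfl⟩
  rw [← map_mul, h2 x hx, map_one]

namespace Pauli

variable [Finite V] (h : Pauli R)
include h

theorem exists_neg (h2 : 2 ≤ finrank F V) : ∃ n : R, rho R n = -1 := by
  obtain ⟨E, _, _, _, π, B, d⟩ := h.exists_pd le_rfl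
  obtain ⟨a, ha, -⟩ := d.sy.ex_perp_zero [] (le_of_sq_le (Spn.finrank_le d (h.spn le_rfl)) h2 (by norm_num))
  exact (d.exists_neg ha).imp fun _ => And.right

theorem mi3 (h2 : 2 ≤ finrank F V) (hm : Geo.IsOfMinusType 3 R) (hM : R ≤ M) {E : Type*} [AddCommGroup E]
    [Module F2 E] {π : M → E} {B : E →ₗ[F2] E →ₗ[F2] F2} (d : PD F (rho M) (Pm R M) π B) {q : E → F2}
    (hq : IsQ (rho M) (Pm R M) π B q) : Mi3 B q := fun a b c qa qb qc ab ac bc => by
  have : Finite (V ≃ₗ[F] V) := Finite.of_injective _ DFunLike.coe_injective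
  by_contra hc
  push Not at hc
  obtain ⟨n, hn⟩ := h.exists_neg h2
  have m : ∀ r : R, (⟨r, hM r.2⟩ : M) ∈ Pm R M := fun r => mem_Pm r.2
  have n0 := (d.ker _ (m n)).2 ⟨-1, hn.trans (neg_one_smul F 1).symm⟩
  have s : ∀ u, ∃ r : R, π ⟨r, hM r.2⟩ = u := fun u => by
    obtain ⟨g, ⟨r, c, e⟩, rfl⟩ := d.surj u
    exact ⟨r, (d.π_of_smul (m r) e).symm⟩
  choose s hs using s
  let f : F2 × F2 × F2 → E := fun t => t.1 • a + t.2.1 • b + t.2.2 • c
  have f1 : ∀ t t', f (t + t') = f t + f t' := fun t t' => by simp only [f, Prod.fst_add, Prod.snd_add]; module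
  have f2 : ∀ t, f t = 0 → t = 0 := fun ⟨x, y, z⟩ e => by
    obtain ⟨h1, h2, h3, h4, h5, h6, h7⟩ := hc
    rcases f2_cases x with rfl | rfl <;> rcases f2_cases y with rfl | rfl <;>
      rcases f2_cases z with rfl | rfl <;>
      simp [f, add_eq_zero, h1, h2, h3, h4, h5.symm, h6.symm, h7.symm] at e ⊢
  let A : Subgroup R :=
    { carrier := {r | ∃ t, π ⟨r, hM r.2⟩ = f t}
      mul_mem' := fun {x y} ⟨t, e⟩ ⟨t', e'⟩ => ⟨t + t', by rw [f1, ← e, ← e', ← d.mul _ (m x) _ (m y)]; rfl⟩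
      one_mem' := ⟨0, d.π_one.trans (by simp [f])⟩
      inv_mem' := fun {x} ⟨t, e⟩ => ⟨t, (d.π_inv (m x)).trans e⟩ }
  have k : ∀ (β : Bool) u, π ⟨(bif β then n * s u else s u : R), hM (Subtype.property _)⟩ = u := fun β u => by
    cases β
    exacts [hs u, (d.mul _ (m n) _ (m _)).trans (by rw [n0, hs, zero_add])]
  refine (hm A ⟨⟨fun ⟨x, t, e⟩ ⟨y, t', e'⟩ => Subtype.ext (Subtype.ext (congrArg Subtype.val
    ((d.comm_iff (m x) (m y)).2 ?_) :))⟩⟩ fun x ⟨⟨t, u, w⟩, e⟩ => rho_inj ((hq.zero _ (m x)).1 ?_)).not_ge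
    (le_of_eq_of_le (by simp) (Nat.card_le_card_of_injective
      (fun t : Bool × F2 × F2 × F2 => (⟨_, t.2, k t.1 (f t.2)⟩ : A)) fun ⟨β, t⟩ ⟨β', t'⟩ e => ?_))
  · simp [e, e', f, d.sy.alt, ab, ac, bc, d.sy.symm b a, d.sy.symm c a, d.sy.symm c b]
  · rw [e]
    rcases f2_cases t with rfl | rfl <;> rcases f2_cases u with rfl | rfl <;>
      rcases f2_cases w with rfl | rfl <;> simp [f, hq.qd _ _, hq.qd.zero, qa, qb, qc, ab, ac, bc]
  · have e1 := Subtype.ext_iff.1 e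
    obtain rfl : t = t' := by
      have := (k β (f t)).symm.trans ((congrArg (fun r : R => π ⟨r, hM r.2⟩) e1).trans (k β' (f t')))
      rw [← add_eq_zero, ← f1] at this
      exact add_eq_zero.1 (f2 _ this)
    have n1 : n ≠ 1 := fun e => d.neg_ne d.nt (by simpa [e] using hn)
    cases β <;> cases β' <;> simp [n1] at e1 ⊢

theorem main_so [Finite F] (hp : ∀ a : F, ∃ n : ℕ, a = n) (hL : R ≤ Φ.Iso) (hσ : ∀ a, Φ.σ a = a)
    (hK : Φ.Comm) (H : Φ.ε = 1 ∧ (∀ c, Φ.π c = c) ∧ Φ.d ≤ 8 ∨ Φ.ε = -1 ∧ ∀ c, Φ.π c = 0)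
    (hd : 13 ≤ finrank F V ∨ 8 ≤ finrank F V ∧ Geo.IsOfMinusType 3 R) :
    R ≤ Φ.EG ∧ ∀ M, Subgroup.normalizer (R : Set (V ≃ₗ[F] V)) ⊓ Φ.EG ≤ M → M ≤ Φ.EG →
      M ≤ Subgroup.normalizer (R : Set (V ≃ₗ[F] V)) ∨ Φ.EG ≤ M := by
  have h2 : 2 ≤ finrank F V := by rcases hd with e | e <;> omega
  refine h.main (fun g hg _ => ?_) hL Φ.EG_le_Iso hK (exists_tt_iso h.two) (fun E _ _ _ π B d => ?_)
    fun M h1 h3 E _ _ _ π B d t => ?_
  · obtain ⟨E, _, _, _, π, B, d⟩ := h.exists_pd hL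
    obtain ⟨c, hc⟩ := hg
    obtain ⟨n, hn⟩ := h.exists_neg h2
    rcases d.sc_sq le_rfl hσ hc with rfl | rfl
    · exact (LinearEquiv.toLinearMap_injective (hc.trans (one_smul ..)) : g.1 = 1) ▸ R.one_mem
    · exact (LinearEquiv.toLinearMap_injective (hc.trans ((neg_one_smul ..).trans hn.symm)) : g.1 = n) ▸ n.2
  · obtain ⟨q, hq⟩ := d.exists_q_iso le_rfl hσ
    have e := Spn.finrank_le d (h.spn hL)
    have ns : ∀ a b c, Ns B q [a, b, c] := fun a b c => hd.elim (fun e' => hq.qd.ns_of_lt d.sy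
      (le_of_sq_le e e' (by norm_num))) fun e' => Qd.ns_of_three d.sy (le_of_sq_le e e'.1 (by norm_num))
        (h.mi3 h2 e'.2 hL d hq) hq.qd
    refine ⟨fun a b => ?_, fun a b ha hb => ?_⟩
    · obtain ⟨w, w0, w1⟩ := ns a b b
      obtain ⟨c, hc, rfl⟩ := d.exists_T hq w0
      exact ⟨c, hc, w1 a (by simp), w1 b (by simp)⟩
    · obtain ⟨w, w0, w1⟩ := hq.qd.ex11 d.sy ns ha hb
      obtain ⟨c, hc, rfl⟩ := d.exists_T hq w0
      exact ⟨c, hc, w1⟩
  · obtain ⟨q, hq⟩ := d.exists_q_iso (h3.trans Φ.EG_le_Iso) hσ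
    exact SO.main ⟨d, h.spn h1, t, h3.trans Φ.EG_le_Iso, hσ, hq,
      hd.imp_right (.imp_right fun e => h.mi3 h2 e h1 d hq)⟩ hp H

end Pauli

variable [Fintype F] {p : ℕ} (hp : p.Prime) (ho : Odd p) (hF : Fintype.card F = p)
include hp ho hF

theorem sp_isMaximalIn {m : ℕ} {R : Subgroup (GL (Fin m ⊕ Fin m) F)} (hR : Geo.IsSymplecticTypeGroup 2 R)
    (hi : Geo.ActsAbsolutelyIrreducibly (Geo.matrixSet R)) (hle : R ≤ spGL m F)
    (hm : 7 ≤ m ∨ 4 ≤ m ∧ Geo.IsOfMinusType 3 R) :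
    Geo.IsMaximalIn (spGL m F) (Geo.subgroupNormalizer R ⊓ spGL m F) := by
  have m4 : 4 ≤ m := by rcases hm with e | e <;> omega
  have : Nonempty (Fin m) := ⟨⟨0, by omega⟩⟩
  have := charP_of_card hp (hF.trans (pow_one p).symm)
  have h2 : (2 : F) ≠ 0 := cast_ne_zero_of hp Nat.prime_two (by rintro rfl; exact absurd ho (by decide))
  refine isMaximalIn_of_pauli (by simp; omega) (Asch.qs_Sp (by omega) (by omega)) (mem_spGL_iff m) hR hi
    ((pauli_of h2 hR hi).main_so (fun a => exists_nat_of_pow hp (hF ▸ FiniteField.pow_card a)) ?_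
      (fun _ => rfl) (fun a ha b hb => ?_) (.inr ⟨rfl, fun _ => rfl⟩) (hm.imp (fun e => by simp; omega)
        fun e => ⟨by simp; omega, minus_map (glEquiv _ F).injective e.2⟩))
  · rintro _ ⟨g, hg, rfl⟩
    exact (mem_spGL_iff_Iso m g).1 (hle hg)
  · rw [EG_fmSpStd]
    exact Subgroup.mul_mem _ (Subgroup.mul_mem _ (Subgroup.mul_mem _ ha hb) (Subgroup.inv_mem _ ha))
      (Subgroup.inv_mem _ hb)

theorem o_isMaximalIn {ι : Type} [Fintype ι] [DecidableEq ι] (hn : 13 ≤ Fintype.card ι)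
    {Q : (ι → F) → F} (hQ : Geo.IsNondegenerateQuadraticForm Q) {R : Subgroup (GL ι F)}
    (hR : Geo.IsSymplecticTypeGroup 2 R) (hi : Geo.ActsAbsolutelyIrreducibly (Geo.matrixSet R))
    (hle : R ≤ isometryGroup F Q) :
    Geo.IsMaximalIn (Geo.omegaGL Q) (Geo.subgroupNormalizer R ⊓ Geo.omegaGL Q) := by
  have : Nonempty ι := Fintype.card_pos_iff.1 (by omega)
  have := charP_of_card hp (hF.trans (pow_one p).symm)
  have h2 : (2 : F) ≠ 0 := cast_ne_zero_of hp Nat.prime_two (by rintro rfl; exact absurd ho (by decide))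
  refine isMaximalIn_of_pauli (by omega) (Asch.qs_omega (nd_qfOf hQ) (by omega))
    (mem_omegaGL_iff hQ (by omega)) hR hi
    ((pauli_of h2 hR hi).main_so (fun a => exists_nat_of_pow hp (hF ▸ FiniteField.pow_card a)) ?_
      (fun _ => rfl) ((isO_fmO hQ).comm (by simp; omega)) (.inl ⟨rfl, fun _ => rfl, (by decide : 3 ≤ 8)⟩)
      (.inl (by simpa using hn)))
  rintro _ ⟨g, hg, rfl⟩
  exact (mem_isometryGroup_iff hQ g).1 (hle hg)

end Cfsg.Agent.Class.C6P
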